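import Groth.Agent.H12Pic.PicCurve.EllipticPic
import Groth.Agent.H12Pic.PicCurve.PicGroup
import Groth.Agent.H25Dual.Classes

/-!
# The group law on a family of genus one curves with a section

The rigidified classes of fibrewise degree zero form a functor to groups, and it is represented by the family itself.
-/

set_option autoImplicit false
set_option linter.style.haveILetI false
set_option linter.unusedSectionVars false
set_option maxHeartbeats 1200000
set_option backward.isDefEq.respectTransparency.types false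

noncomputable section

universe u

open CategoryTheory CategoryTheory.Limits AlgebraicGeometry Opposite MonoidalCategory CartesianMonoidalCategory MonObj

namespace Groth.Agent.H29Ell

open Groth.Agent.H17.PullCl Groth.Agent.H12Pic.RigPoints Groth.Agent.H12Pic.PicCurve
open Groth.Agent.H25Theta (Cls cls pull pullU unitCls pb pT pC pI tI pO)

variable {E S : Scheme.{u}} (f : E ⟶ S) (e : S ⟶ E) (he : e ≫ f = 𝟙 S)

/-- The rigidified classes algebraically trivial on the fibres. -/
def jSub (T : Over S) : Subgroup (Cls (PicF.XT f T))ˣ where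
  carrier := {u | u ∈ PicGroup.rigSub f he T ∧ AbDual.IsPicZeroCl f T (u.1 : PicF.Cl (PicF.XT f T))}
  one_mem' := ⟨one_mem _, H25Dual.picZero_structure T⟩
  mul_mem' := by
    rintro a b ⟨ha, hL⟩ ⟨hb, hM⟩
    refine ⟨mul_mem ha hb, ?_⟩
    obtain ⟨L, hLa, -⟩ := id hL
    obtain ⟨M, hMb, -⟩ := id hM
    have h := H25Dual.picZero_tensor (L := L) (L' := M) (by rw [hLa]; exact hL) (by rw [hMb]; exact hM)
    change AbDual.IsPicZeroCl f T (show Cls _ from cls L * cls M) at h
    rwa [show cls L = a.1 from hLa, show cls M = b.1 from hMb] at h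
  inv_mem' := by
    rintro a ⟨ha, L, hLa, hL, hfib⟩
    refine ⟨inv_mem ha, ?_⟩
    obtain ⟨N, hN, ⟨eN⟩⟩ := H11Sym.exists_inverse hL
    have h : cls N = (a⁻¹).1 := by
      refine (Units.inv_eq_of_mul_eq_one_left ?_).symm
      rw [← show cls L = a.1 from hLa]
      exact Quot.sound ⟨eN⟩
    refine ⟨N, h, hN, fun t Ω _ _ σ hσ => ?_⟩
    letI : (pullback (PicF.XTproj f T) σ).Over (Spec (CommRingCat.of Ω)) := ⟨pullback.snd _ _⟩
    exact H25Dual.algEquiv_inverse (hfib t Ω σ hσ) (H11Ample.isInvertible_pullback _ hL)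
      ((pT _ N L).symm ≪≫ (Scheme.Modules.pullback _).mapIso eN ≪≫ pO _)

/-- Forget the part of a class coming from the base. -/
def norm (T : Over S) : (Cls (PicF.XT f T))ˣ →* (Cls (PicF.XT f T))ˣ :=
  MonoidHom.id _ / (pullU (PicF.XTproj f T)).comp (pullU (PicF.secT f e he T))

theorem norm_apply (T : Over S) (u : (Cls (PicF.XT f T))ˣ) :
    norm f e he T u = u / pullU (PicF.XTproj f T) (pullU (PicF.secT f e he T) u) := rfl

theorem pullU_secT_base (T : Over S) (m : (Cls T.left)ˣ) :
    pullU (PicF.secT f e he T) (pullU (PicF.XTproj f T) m) = m := by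
  rw [H25Theta.pullU_pullU, show PicF.secT f e he T ≫ PicF.XTproj f T = 𝟙 _ from H12Pic.RigDescent.secT_snd f he T,
    H25Theta.pullU_id]

theorem norm_base (T : Over S) (m : (Cls T.left)ˣ) : norm f e he T (pullU (PicF.XTproj f T) m) = 1 := by
  rw [norm_apply, pullU_secT_base, div_self']

theorem pullU_secT_norm (T : Over S) (u : (Cls (PicF.XT f T))ˣ) :
    pullU (PicF.secT f e he T) (norm f e he T u) = 1 := by
  rw [norm_apply, map_div, pullU_secT_base, div_self']

theorem norm_eq_self (T : Over S) (u : (Cls (PicF.XT f T))ˣ) (h : pullU (PicF.secT f e he T) u = 1) :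
    norm f e he T u = u := by
  rw [norm_apply, h, map_one, div_one]

theorem norm_natural {T T' : Over S} (g : T' ⟶ T) (u : (Cls (PicF.XT f T))ˣ) :
    pullU (PicF.XTmap f g) (norm f e he T u) = norm f e he T' (pullU (PicF.XTmap f g) u) := by
  rw [norm_apply, norm_apply, map_div]
  congr 1
  rw [H25Theta.pullU_pullU, XTmap_snd, ← H25Theta.pullU_pullU]
  congr 1
  rw [H25Theta.pullU_pullU, H25Theta.pullU_pullU, secT_XTmap f he g]

/-- Classes from the base are algebraically trivial on the fibres. -/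
theorem picZero_base (T : Over S) (m : (Cls T.left)ˣ) (hm : PicF.IsInvertibleCl (m.1 : PicF.Cl T.left)) :
    AbDual.IsPicZeroCl f T ((pullU (PicF.XTproj f T) m).1 : PicF.Cl (PicF.XT f T)) := by
  obtain ⟨M, hMm, hM⟩ := hm
  refine ⟨_, congrArg (PicF.pullCl (PicF.XTproj f T)) hMm, H11Ample.isInvertible_pullback _ hM,
    fun t Ω _ _ σ _ => ?_⟩
  letI : (pullback (PicF.XTproj f T) σ).Over (Spec (CommRingCat.of Ω)) := ⟨pullback.snd _ _⟩
  haveI : Subsingleton ↥(Spec (CommRingCat.of Ω)) := inferInstanceAs (Subsingleton (PrimeSpectrum Ω))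
  haveI : Nonempty ↥(Spec (CommRingCat.of Ω)) := inferInstanceAs (Nonempty (PrimeSpectrum Ω))
  obtain ⟨c⟩ := H25Theta.nonempty_iso_of_subsingleton (H11Ample.isInvertible_pullback σ hM)
  exact H12Pic.CurveFam.algEquiv_congr
    (pC (pullback.fst (PicF.XTproj f T) σ) (PicF.XTproj f T) pullback.condition M ≪≫
      (pC (pullback.snd _ _) σ rfl M).symm ≪≫ (Scheme.Modules.pullback _).mapIso c ≪≫ pO _).symm
    H12Pic.CurveFam.algEquiv_structure

theorem isInvertibleCl_unit {Y : Scheme.{u}} {L : Y.Modules} (hL : PicF.IsInvertible L) :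
    PicF.IsInvertibleCl ((unitCls hL).1 : PicF.Cl Y) := ⟨L, rfl, hL⟩

theorem norm_mem_jSub (T : Over S) {L : (PicF.XT f T).Modules} (hL : PicF.IsInvertible L)
    (h0 : AbDual.IsPicZeroCl f T (PicF.cl L)) : norm f e he T (unitCls hL) ∈ jSub f e he T := by
  let s := PicF.secT f e he T
  have hs := H11Ample.isInvertible_pullback s hL
  obtain ⟨N, hN, ⟨eN⟩⟩ := H11Sym.exists_inverse hs
  have hNu : ((unitCls hs)⁻¹).1 = cls N := Units.inv_eq_of_mul_eq_one_left (Quot.sound ⟨eN⟩)
  have hb := picZero_base f T (unitCls hs)⁻¹ ⟨N, hNu.symm, hN⟩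
  obtain ⟨L', hL', hL'i, -⟩ := id h0
  obtain ⟨B, hB, hBi, -⟩ := id hb
  have hval : (norm f e he T (unitCls hL)).1 = cls L' * cls B := by
    rw [norm_apply, div_eq_mul_inv, Units.val_mul, show cls L' = cls L from hL', show cls B = _ from hB, ← map_inv,
      show pullU s (unitCls hL) = unitCls hs from Units.ext rfl]
    rfl
  refine ⟨⟨?_, ?_⟩, ?_⟩
  · exact ⟨_, hval.symm, H11Ample.isInvertible_tensor hL'i hBi⟩
  · exact congrArg Units.val (pullU_secT_norm f e he T (unitCls hL))
  · rw [hval]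
    exact H25Dual.picZero_tensor (L := L') (L' := B) (by rw [hL']; exact h0) (by rw [hB]; exact hb)

/-- Pullback of the group. -/
def jMap {T T' : Over S} (g : T' ⟶ T) : jSub f e he T →* jSub f e he T' :=
  ((pullU (PicF.XTmap f g)).comp (jSub f e he T).subtype).codRestrict _ fun u =>
    ⟨(PicGroup.rigMap f he g ⟨u.1, u.2.1⟩).2, H25Dual.picZero_XTmap g u.2.2⟩

/-- The functor to groups. -/
def jFunctor : (Over S)ᵒᵖ ⥤ GrpCat.{u + 1} where
  obj T := GrpCat.of (jSub f e he T.unop)
  map g := GrpCat.ofHom (jMap f e he g.unop)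
  map_id T := GrpCat.hom_ext (MonoidHom.ext fun u => Subtype.ext (by
    show pullU (PicF.XTmap f (𝟙 T.unop)) u.1 = u.1
    rw [H27HilbOps.XTmap_id, H25Theta.pullU_id]))
  map_comp a b := GrpCat.hom_ext (MonoidHom.ext fun u => Subtype.ext (by
    show pullU (PicF.XTmap f (b.unop ≫ a.unop)) u.1 = pullU _ (pullU _ u.1)
    rw [H25Theta.pullU_pullU, XTmap_comp]))

/-- The unit point of the family. -/
abbrev ePoint : Over.mk (𝟙 S) ⟶ Over.mk f := Over.homMk e he

variable [IsProper f] [SmoothOfRelativeDimension 1 f] [GeometricallyConnected f]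
  (hg : ∀ s : S, CohIII.fiberRank f (Coh.structureModule E) 1 s = 1)

theorem exists_diagonal_inverse : ∃ LΔ : (PicF.XT f (Over.mk f)).Modules, PicF.IsInvertible LΔ ∧
    ClSub.IsInverseOf LΔ (ClSub.idealMod (pullback.diagonal f).ker) := by
  obtain ⟨_, _, _⟩ := family_facts f (Over.mk f)
  obtain ⟨L, hL, h⟩ := H11Sym.exists_inverse (H29Blow.isInvertible_of_isEffCartierIdeal _
    (H12Pic.CurveFam.isEffCartierIdeal_section (PicF.XTproj f (Over.mk f)) (pullback.diagonal f)
      (pullback.diagonal_snd f)))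
  exact ⟨L, hL, h⟩

variable {LΔ : (PicF.XT f (Over.mk f)).Modules} (hLΔ : PicF.IsInvertible LΔ)
  (hΔ : ClSub.IsInverseOf LΔ (ClSub.idealMod (pullback.diagonal f).ker))

include he hLΔ in
theorem isInvertible_diagClass : PicF.IsInvertible (diagClass f e LΔ) :=
  H11Ample.isInvertible_tensor hLΔ (H11Ample.isInvertible_pullback _
    (H29Blow.isInvertible_of_isEffCartierIdeal _ (H12Pic.CurveFam.isEffCartierIdeal_section f e he)))

include he hLΔ hΔ in
/-- The class of a point: `O(P) ⊗ I(e)`. -/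
theorem diag_val {T : Over S} (a : T ⟶ Over.mk f) :
    ∃ (P : T.left ⟶ PicF.XT f T) (hP : P ≫ PicF.XTproj f T = 𝟙 _) (hIP : PicF.IsInvertible (ClSub.idealMod P.ker))
      (hIe : PicF.IsInvertible (ClSub.idealMod (PicF.secT f e he T).ker)),
      P ≫ pullback.fst f T.hom = a.left ∧
      pullU (PicF.XTmap f a) (unitCls (isInvertible_diagClass f e he hLΔ)) = (unitCls hIP)⁻¹ * unitCls hIe := by
  obtain ⟨_, _, _⟩ := family_facts f T
  obtain ⟨P, N, hP, hPa, hN, ⟨eN⟩, ⟨ea⟩⟩ := pullback_diagClass f e he hLΔ hΔ a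
  have hIP := H29Blow.isInvertible_of_isEffCartierIdeal _
    (H12Pic.CurveFam.isEffCartierIdeal_section (PicF.XTproj f T) P hP)
  have hIe := H29Blow.isInvertible_of_isEffCartierIdeal _
    (H12Pic.CurveFam.isEffCartierIdeal_section (PicF.XTproj f T) _ (H12Pic.RigDescent.secT_snd f he T))
  refine ⟨P, hP, hIP, hIe, hPa, ?_⟩
  have hn : (unitCls hIP)⁻¹ = unitCls hN := inv_eq_of_mul_eq_one_left (Units.ext (Quot.sound ⟨eN⟩))
  rw [hn]
  exact Units.ext (Quot.sound ⟨ea⟩)

/-- The group element attached to a point. -/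
def gr {T : Over S} (a : T ⟶ Over.mk f) : jSub f e he T :=
  ⟨norm f e he T (pullU (PicF.XTmap f a) (unitCls (isInvertible_diagClass f e he hLΔ))), by
    have h := norm_mem_jSub f e he T (H11Ample.isInvertible_pullback (PicF.XTmap f a) (isInvertible_diagClass f e he hLΔ))
      (isPicZeroCl_pullback_diagClass f e he hLΔ hΔ hg a)
    rwa [show unitCls (H11Ample.isInvertible_pullback (PicF.XTmap f a) (isInvertible_diagClass f e he hLΔ)) =
      pullU (PicF.XTmap f a) (unitCls (isInvertible_diagClass f e he hLΔ)) from Units.ext rfl] at h⟩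

include hg hΔ in
theorem gr_natural {T T' : Over S} (g : T' ⟶ T) (a : T ⟶ Over.mk f) :
    gr f e he hg hLΔ hΔ (g ≫ a) = jMap f e he g (gr f e he hg hLΔ hΔ a) := Subtype.ext (by
  show norm f e he T' (pullU (PicF.XTmap f (g ≫ a)) _) = pullU (PicF.XTmap f g) (norm f e he T _)
  rw [norm_natural, H25Theta.pullU_pullU, XTmap_comp])

include hg hΔ in
theorem gr_injective (T : Over S) : Function.Injective fun a : T ⟶ Over.mk f => gr f e he hg hLΔ hΔ a := by
  intro a b hab
  have hab' := congrArg Subtype.val hab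
  obtain ⟨_, _, _⟩ := family_facts f T
  obtain ⟨Pa, hPa, hIa, hIe, hPa', ha⟩ := diag_val f e he hLΔ hΔ a
  obtain ⟨Pb, hPb, hIb, hIe', hPb', hb⟩ := diag_val f e he hLΔ hΔ b
  change norm f e he T (pullU (PicF.XTmap f a) _) = norm f e he T (pullU (PicF.XTmap f b) _) at hab'
  rw [ha, hb, map_mul, map_mul, mul_left_inj, map_inv, map_inv, inv_inj, norm_apply, norm_apply] at hab'
  obtain ⟨N, hN, ⟨eN⟩⟩ := H11Sym.exists_inverse hIa
  obtain ⟨hgood, hpa, -⟩ := point_facts f e he hLΔ hΔ hg Pa hPa hN eN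
  have hb2 : IsPointOf (PicF.XTproj f T) N Pb := by
    let ma := pullU (PicF.secT f e he T) (unitCls hIa)
    let mb := pullU (PicF.secT f e he T) (unitCls hIb)
    obtain ⟨Ma, hMa, ⟨eMa⟩⟩ := H11Sym.exists_inverse (H11Ample.isInvertible_pullback (PicF.secT f e he T) hIa)
    let Mb := (Scheme.Modules.pullback (PicF.secT f e he T)).obj (ClSub.idealMod Pb.ker)
    have hMb : PicF.IsInvertible Mb := H11Ample.isInvertible_pullback _ hIb
    have hn : unitCls hN = (unitCls hIa)⁻¹ := (inv_eq_of_mul_eq_one_left (Units.ext (Quot.sound ⟨eN⟩))).symm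
    have hma : ma⁻¹ = unitCls hMa := inv_eq_of_mul_eq_one_left (Units.ext (Quot.sound ⟨eMa⟩))
    have key : unitCls hN * unitCls hIb = pullU (PicF.XTproj f T) (unitCls hMa * unitCls hMb) := by
      rw [hn, ← hma, show unitCls hMb = mb from Units.ext rfl, map_mul, map_inv]
      have hab'' : unitCls hIa / unitCls hIb =
          pullU (PicF.XTproj f T) ma / pullU (PicF.XTproj f T) mb := by
        rw [div_eq_div_iff_mul_eq_mul] at hab' ⊢
        rw [hab']; exact mul_comm _ _
      calc (unitCls hIa)⁻¹ * unitCls hIb = (unitCls hIa / unitCls hIb)⁻¹ := by rw [inv_div, div_eq_inv_mul]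
        _ = _ := by rw [hab'', inv_div, div_eq_inv_mul]
    have hk := congrArg Units.val key
    exact ⟨hPb, _, H11Ample.isInvertible_tensor hMa hMb, H25Theta.cls_eq.1 hk⟩
  have hPab : Pa = Pb := isPointOf_unique _ hN hgood hpa hb2
  refine Over.OverMorphism.ext ?_
  rw [← hPa', ← hPb', hPab]

include hg hΔ in
theorem gr_surjective (T : Over S) : Function.Surjective fun a : T ⟶ Over.mk f => gr f e he hg hLΔ hΔ a := by
  intro v
  obtain ⟨⟨-, hv⟩, hc⟩ := id v.2
  obtain ⟨L, hLv, hL, hdeg⟩ := id hc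
  obtain ⟨_, _, _⟩ := family_facts f T
  let π := PicF.XTproj f T
  have hsec : PicF.secT f e he T ≫ π = 𝟙 _ := H12Pic.RigDescent.secT_snd f he T
  have hI := H29Blow.isInvertible_of_isEffCartierIdeal _ (H12Pic.CurveFam.isEffCartierIdeal_section π _ hsec)
  obtain ⟨Ne, hNe, ⟨eNe⟩⟩ := H11Sym.exists_inverse hI
  have hW := H11Ample.isInvertible_tensor hL hNe
  have hO := fibEuler_structure_family f hg T
  have hW1 : ∀ t, fibEuler π (CohB1.tensorMod L Ne) t = 1 := fun t => by
    rw [fibEuler_twist_section π _ hsec hL hNe eNe t, (forall_isAlgTrivialAt_iff π hL).1 hdeg t, hO]; rfl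
  obtain ⟨hgood, hO'⟩ := isGood_of_euler_one π hO hW hW1
  obtain ⟨P, ⟨hP, M, hM, ⟨eM⟩⟩, -⟩ := existsUnique_point π hW hgood hO'
  let a : T ⟶ Over.mk f := Over.homMk (P ≫ pullback.fst f T.hom) (by
    show (P ≫ pullback.fst f T.hom) ≫ f = T.hom
    rw [Category.assoc, pullback.condition, ← Category.assoc, hP, Category.id_comp])
  refine ⟨a, Subtype.ext ?_⟩
  obtain ⟨P', hP', hIP, hIe, hP'a, ha⟩ := diag_val f e he hLΔ hΔ a
  obtain rfl : P' = P := pullback.hom_ext hP'a (hP'.trans hP.symm)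
  show norm f e he T (pullU (PicF.XTmap f a) _) = v.1
  have hne : (unitCls hIe)⁻¹ = unitCls hNe := inv_eq_of_mul_eq_one_left (Units.ext (Quot.sound ⟨eNe⟩))
  have hlv : v.1 = unitCls hL := Units.ext hLv.symm
  have hk : v.1 * (unitCls hIe)⁻¹ * unitCls hIP = pullU π (unitCls hM) := by
    rw [hne, hlv]
    exact Units.ext (Quot.sound ⟨eM⟩)
  have hd : (unitCls hIP)⁻¹ * unitCls hIe = v.1 / pullU π (unitCls hM) := by
    rw [← hk]
    simp only [div_eq_mul_inv, mul_inv_rev, inv_inv]
    rw [mul_left_comm, mul_comm (unitCls hIe) v.1⁻¹, mul_inv_cancel_left]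
  rw [ha, hd, map_div, norm_base, div_one, norm_eq_self f e he T v.1 (Units.ext hv)]

/-- Points and group elements. -/
def grEquiv (T : Over S) : (T ⟶ Over.mk f) ≃ jSub f e he T :=
  Equiv.ofBijective _ ⟨gr_injective f e he hg hLΔ hΔ T, gr_surjective f e he hg hLΔ hΔ T⟩

/-- The family represents the functor to groups. -/
def jRep : (jFunctor f e he ⋙ forget GrpCat).RepresentableBy (Over.mk f) where
  homEquiv {T} := grEquiv f e he hg hLΔ hΔ T
  homEquiv_comp k a := gr_natural f e he hg hLΔ hΔ k a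

include hg hΔ in
/-- The point of the section is the unit. -/
theorem gr_ePoint : gr f e he hg hLΔ hΔ (ePoint f e he) = 1 := by
  obtain ⟨P, hP, hIP, hIe, hPa, h⟩ := diag_val f e he hLΔ hΔ (ePoint f e he)
  have hPs : P = PicF.secT f e he (Over.mk (𝟙 S)) := by
    refine pullback.hom_ext (hPa.trans ?_) (hP.trans (H12Pic.RigDescent.secT_snd f he _).symm)
    exact Eq.trans (by exact (Category.id_comp e).symm) (pullback.lift_fst _ _ _).symm
  subst hPs
  refine Subtype.ext ?_
  show norm f e he _ (pullU _ _) = 1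
  rw [h, inv_mul_cancel, map_one]

/-- The group law. -/
@[instance_reducible]
def grpObj : GrpObj (Over.mk f) := GrpObj.ofRepresentableBy _ (jFunctor f e he) (jRep f e he hg hLΔ hΔ)

include hg hΔ in
theorem grpObj_one : (grpObj f e he hg hLΔ hΔ).one.left = e := by
  have h : (grpObj f e he hg hLΔ hΔ).one = (grEquiv f e he hg hLΔ hΔ _).symm 1 := rfl
  rw [h]
  refine congrArg (fun q : Over.mk (𝟙 S) ⟶ Over.mk f => q.left)
    (a₂ := ePoint f e he) ((Equiv.symm_apply_eq _).2 ?_)
  show _ = gr f e he hg hLΔ hΔ (ePoint f e he)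
  exact (gr_ePoint f e he hg hLΔ hΔ).symm

include he hg in
/-- A family of genus one curves with a section is a group scheme with the section as unit. -/
theorem exists_grpObj : ∃ h : GrpObj (Over.mk f), h.one.left = e := by
  obtain ⟨LΔ, hLΔ, hΔ⟩ := exists_diagonal_inverse f
  exact ⟨grpObj f e he hg hLΔ hΔ, grpObj_one f e he hg hLΔ hΔ⟩

end Groth.Agent.H29Ell
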